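import Cfsg.Agent.Lib.Helper95.BRA.Defs

/-!
# Project BRA (S4484): package [B3]
The trace inequality `tr (P Q) ≤ tr (Q (A Q Aᴴ))` with its equality case.
-/

set_option autoImplicit false

open scoped Matrix ComplexConjugate

namespace Cfsg.Agent.Lib.Helper20.BRA

open Cfsg Cfsg.Agent.Lib.Helper74.Jordan Cfsg.Agent.Lib.Helper95.BRA

/-- sum of the squared norms of the columns is the trace of `Mᴴ M` -/
lemma sum_nsq_col {n : ℕ} (M : Matrix (Fin n) (Fin n) ℂ) :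
    ∑ i, nsq (fun k => M k i) = (Mᴴ * M).trace.re := by
  rw [trace_conjTranspose_mul_self, Complex.ofReal_re]
  unfold nsq fn
  exact Finset.sum_comm

/-- Cauchy–Schwarz for complex vectors -/
lemma normSq_dot_le {n : ℕ} (u v : Fin n → ℂ) :
    Complex.normSq (star u ⬝ᵥ v) ≤ nsq u * nsq v := by
  have h1 : ‖star u ⬝ᵥ v‖ ≤ ∑ i, ‖u i‖ * ‖v i‖ := by
    unfold dotProduct
    refine (norm_sum_le _ _).trans (le_of_eq ?_)
    refine Finset.sum_congr rfl (fun i _ => ?_)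
    rw [norm_mul, Pi.star_apply, norm_star]
  have h2 : (∑ i, ‖u i‖ * ‖v i‖) ^ 2 ≤ (∑ i, ‖u i‖ ^ 2) * (∑ i, ‖v i‖ ^ 2) :=
    Finset.sum_mul_sq_le_sq_mul_sq _ _ _
  have h3 : nsq u = ∑ i, ‖u i‖ ^ 2 := by
    unfold nsq; exact Finset.sum_congr rfl (fun i _ => Complex.normSq_eq_norm_sq _)
  have h4 : nsq v = ∑ i, ‖v i‖ ^ 2 := by
    unfold nsq; exact Finset.sum_congr rfl (fun i _ => Complex.normSq_eq_norm_sq _)
  rw [Complex.normSq_eq_norm_sq, h3, h4]
  refine le_trans ?_ h2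
  exact pow_le_pow_left₀ (norm_nonneg _) h1 2

lemma nsq_eq_re {n : ℕ} (w : Fin n → ℂ) : nsq w = (star w ⬝ᵥ w).re := by
  unfold nsq dotProduct
  rw [Complex.re_sum]
  refine Finset.sum_congr rfl (fun i _ => ?_)
  rw [Pi.star_apply, Complex.normSq_apply]
  simp [Complex.mul_re]

lemma nsq_nonneg {n : ℕ} (w : Fin n → ℂ) : 0 ≤ nsq w :=
  Finset.sum_nonneg (fun i _ => Complex.normSq_nonneg _)

lemma nsq_eq_zero {n : ℕ} {w : Fin n → ℂ} (h : nsq w = 0) : w = 0 := by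
  unfold nsq at h
  have := (Finset.sum_eq_zero_iff_of_nonneg (fun i _ => Complex.normSq_nonneg (w i))).mp h
  funext i
  exact Complex.normSq_eq_zero.mp (this i (Finset.mem_univ i))

lemma nsq_unitary {n : ℕ} (A : Matrix (Fin n) (Fin n) ℂ) (hA : Aᴴ * A = 1) (w : Fin n → ℂ) :
    nsq (A *ᵥ w) = nsq w := by
  rw [nsq_eq_re, nsq_eq_re, Matrix.star_mulVec, ← Matrix.dotProduct_mulVec, Matrix.mulVec_mulVec,
    hA, Matrix.one_mulVec]

theorem pkgB3 : PkgB3 := by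
  intro n A P Q hA hPh hPP hQh hQQ hineq heq
  obtain ⟨Q', hQ'⟩ : ∃ Q', Q' = A * Q * Aᴴ := ⟨_, rfl⟩
  have hQ'h : Q'ᴴ = Q' := by
    rw [hQ', Matrix.conjTranspose_mul, Matrix.conjTranspose_mul, Matrix.conjTranspose_conjTranspose,
      hQh, Matrix.mul_assoc]
  have hQ'Q' : Q' * Q' = Q' := by
    rw [hQ']
    calc A * Q * Aᴴ * (A * Q * Aᴴ) = A * Q * (Aᴴ * A) * Q * Aᴴ := by simp only [Matrix.mul_assoc]
      _ = A * Q * Aᴴ := by rw [hA, Matrix.mul_one, Matrix.mul_assoc A Q Q, hQQ]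
  have hQ'AQ : Q' * (A * Q) = A * Q := by
    rw [hQ']
    calc A * Q * Aᴴ * (A * Q) = A * Q * (Aᴴ * A) * Q := by simp only [Matrix.mul_assoc]
      _ = A * Q := by rw [hA, Matrix.mul_one, Matrix.mul_assoc, hQQ]
  have hQ'Aw : ∀ i : Fin n, Q' *ᵥ (A *ᵥ (fun k => Q k i)) = A *ᵥ (fun k => Q k i) := by
    intro i
    rw [Matrix.mulVec_mulVec]
    show (fun k => (Q' * A * Q) k i) = fun k => (A * Q) k i
    rw [Matrix.mul_assoc, hQ'AQ]
  have hterm : ∀ i : Fin n, nsq (P *ᵥ (fun k => Q k i)) ≤ nsq (Q' *ᵥ (fun k => Q k i)) ∧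
      (nsq (P *ᵥ (fun k => Q k i)) = nsq (Q' *ᵥ (fun k => Q k i)) →
        P *ᵥ (fun k => Q k i) = fun k => Q k i) := by
    intro i
    obtain ⟨v, hv⟩ : ∃ v : Fin n → ℂ, v = fun k => Q k i := ⟨_, rfl⟩
    rw [← hv]
    have h1 := hineq v
    have h2 : star v ⬝ᵥ (A *ᵥ v) = star (Q' *ᵥ v) ⬝ᵥ (A *ᵥ v) := by
      have hh : Q' *ᵥ (A *ᵥ v) = A *ᵥ v := by rw [hv]; exact hQ'Aw i
      rw [Matrix.star_mulVec, hQ'h, ← Matrix.dotProduct_mulVec, hh]
    have h3 := normSq_dot_le (Q' *ᵥ v) (A *ᵥ v)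
    rw [nsq_unitary A hA v, ← h2] at h3
    rcases (nsq_nonneg v).lt_or_eq with hpos | hzero
    · constructor
      · exact le_of_mul_le_mul_right (h1.trans h3) hpos
      · intro he
        apply heq v
        apply le_antisymm h1
        rw [he]; exact h3
    · have hv0 : v = 0 := nsq_eq_zero hzero.symm
      rw [hv0]
      simp
  have hsumP : ∑ i : Fin n, nsq (P *ᵥ (fun k => Q k i)) = (P * Q).trace.re := by
    have h := sum_nsq_col (P * Q)
    have h' : ((P * Q)ᴴ * (P * Q)).trace = (P * Q).trace := by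
      rw [Matrix.conjTranspose_mul, hPh, hQh]
      calc (Q * P * (P * Q)).trace = (Q * (P * P) * Q).trace := by simp only [Matrix.mul_assoc]
        _ = (Q * (P * Q)).trace := by rw [hPP, Matrix.mul_assoc]
        _ = (P * Q * Q).trace := by rw [Matrix.trace_mul_comm]
        _ = (P * Q).trace := by rw [Matrix.mul_assoc, hQQ]
    rw [h'] at h
    exact h
  have hsumQ : ∑ i : Fin n, nsq (Q' *ᵥ (fun k => Q k i)) = (Q * Q').trace.re := by
    have h := sum_nsq_col (Q' * Q)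
    have h' : ((Q' * Q)ᴴ * (Q' * Q)).trace = (Q * Q').trace := by
      rw [Matrix.conjTranspose_mul, hQ'h, hQh]
      calc (Q * Q' * (Q' * Q)).trace = (Q * (Q' * Q') * Q).trace := by simp only [Matrix.mul_assoc]
        _ = (Q * (Q' * Q)).trace := by rw [hQ'Q', Matrix.mul_assoc]
        _ = (Q' * Q * Q).trace := by rw [Matrix.trace_mul_comm]
        _ = (Q' * Q).trace := by rw [Matrix.mul_assoc, hQQ]
        _ = (Q * Q').trace := Matrix.trace_mul_comm _ _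
    rw [h'] at h
    exact h
  rw [← hQ', ← hsumP, ← hsumQ]
  constructor
  · exact Finset.sum_le_sum (fun i _ => (hterm i).1)
  · intro he
    have h5 := (Finset.sum_eq_sum_iff_of_le (fun i _ => (hterm i).1)).mp he
    ext k i
    have h6 := (hterm i).2 (h5 i (Finset.mem_univ i))
    exact congrFun h6 k

end Cfsg.Agent.Lib.Helper20.BRA
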